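import Cfsg.Agent.Lib.Lyons.Cert

/-! The certificate for the degree equations in Lyons' theorem. -/

set_option autoImplicit false
set_option maxRecDepth 100000

namespace CfsgLib.Lyons

/-- the types of rows -/
def types : List Ty := [
  ⟨1, 0, 0, 0, 0, 0, 1⟩, ⟨1, 0, 0, 0, 0, 0, 2⟩, ⟨1, 0, 0, 0, 0, 0, 3⟩, ⟨1, 0, 4, 4, 4, 2, -3⟩,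
  ⟨1, 0, 4, 4, 4, 2, -2⟩, ⟨1, 0, 4, 4, 4, 2, -1⟩, ⟨1, 0, 4, 4, 4, 2, 0⟩, ⟨1, 0, 4, 4, 4, 2, 1⟩,
  ⟨1, 0, 4, 4, 4, 2, 2⟩, ⟨1, 0, 4, 4, 4, 2, 3⟩, ⟨1, 0, 8, 16, 16, 8, -3⟩, ⟨1, 0, 8, 16, 16, 8, -2⟩,
  ⟨1, 0, 8, 16, 16, 8, -1⟩, ⟨1, 0, 8, 16, 16, 8, 0⟩, ⟨1, 0, 8, 16, 16, 8, 1⟩, ⟨1, 0, 8, 16, 16, 8, 2⟩,
  ⟨1, 0, 8, 16, 16, 8, 3⟩, ⟨1, 1, -8, 16, 16, 8, -3⟩, ⟨1, 1, -8, 16, 16, 8, -2⟩, ⟨1, 1, -8, 16, 16, 8, -1⟩,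
  ⟨1, 1, -8, 16, 16, 8, 0⟩, ⟨1, 1, -8, 16, 16, 8, 1⟩, ⟨1, 1, -8, 16, 16, 8, 2⟩, ⟨1, 1, -8, 16, 16, 8, 3⟩,
  ⟨1, 1, -4, 4, 4, 2, -3⟩, ⟨1, 1, -4, 4, 4, 2, -2⟩, ⟨1, 1, -4, 4, 4, 2, -1⟩, ⟨1, 1, -4, 4, 4, 2, 0⟩,
  ⟨1, 1, -4, 4, 4, 2, 1⟩, ⟨1, 1, -4, 4, 4, 2, 2⟩, ⟨1, 1, -4, 4, 4, 2, 3⟩, ⟨1, 1, 0, 0, 0, 0, -3⟩,
  ⟨1, 1, 0, 0, 0, 0, -2⟩, ⟨1, 1, 0, 0, 0, 0, -1⟩, ⟨1, 1, 0, 0, 0, 0, 0⟩, ⟨1, 1, 0, 0, 0, 0, 1⟩,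
  ⟨1, 1, 0, 0, 0, 0, 2⟩, ⟨1, 1, 0, 0, 0, 0, 3⟩, ⟨1, 1, 4, 4, 4, 2, -3⟩, ⟨1, 1, 4, 4, 4, 2, -2⟩,
  ⟨1, 1, 4, 4, 4, 2, -1⟩, ⟨1, 1, 4, 4, 4, 2, 0⟩, ⟨1, 1, 4, 4, 4, 2, 1⟩, ⟨1, 1, 4, 4, 4, 2, 2⟩,
  ⟨1, 1, 4, 4, 4, 2, 3⟩, ⟨1, 1, 8, 16, 16, 8, -3⟩, ⟨1, 1, 8, 16, 16, 8, -2⟩, ⟨1, 1, 8, 16, 16, 8, -1⟩,
  ⟨1, 1, 8, 16, 16, 8, 0⟩, ⟨1, 1, 8, 16, 16, 8, 1⟩, ⟨1, 1, 8, 16, 16, 8, 2⟩, ⟨1, 1, 8, 16, 16, 8, 3⟩,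
  ⟨1, 2, -8, 16, 16, 8, -3⟩, ⟨1, 2, -8, 16, 16, 8, -2⟩, ⟨1, 2, -8, 16, 16, 8, -1⟩, ⟨1, 2, -8, 16, 16, 8, 0⟩,
  ⟨1, 2, -8, 16, 16, 8, 1⟩, ⟨1, 2, -8, 16, 16, 8, 2⟩, ⟨1, 2, -8, 16, 16, 8, 3⟩, ⟨1, 2, -4, 4, 4, 2, -3⟩,
  ⟨1, 2, -4, 4, 4, 2, -2⟩, ⟨1, 2, -4, 4, 4, 2, -1⟩, ⟨1, 2, -4, 4, 4, 2, 0⟩, ⟨1, 2, -4, 4, 4, 2, 1⟩,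
  ⟨1, 2, -4, 4, 4, 2, 2⟩, ⟨1, 2, -4, 4, 4, 2, 3⟩, ⟨1, 2, 0, 0, 0, 0, -3⟩, ⟨1, 2, 0, 0, 0, 0, -2⟩,
  ⟨1, 2, 0, 0, 0, 0, -1⟩, ⟨1, 2, 0, 0, 0, 0, 0⟩, ⟨1, 2, 0, 0, 0, 0, 1⟩, ⟨1, 2, 0, 0, 0, 0, 2⟩,
  ⟨1, 2, 0, 0, 0, 0, 3⟩, ⟨1, 2, 4, 4, 4, 2, -3⟩, ⟨1, 2, 4, 4, 4, 2, -2⟩, ⟨1, 2, 4, 4, 4, 2, -1⟩,
  ⟨1, 2, 4, 4, 4, 2, 0⟩, ⟨1, 2, 4, 4, 4, 2, 1⟩, ⟨1, 2, 4, 4, 4, 2, 2⟩, ⟨1, 2, 4, 4, 4, 2, 3⟩,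
  ⟨1, 2, 8, 16, 16, 8, -3⟩, ⟨1, 2, 8, 16, 16, 8, -2⟩, ⟨1, 2, 8, 16, 16, 8, -1⟩, ⟨1, 2, 8, 16, 16, 8, 0⟩,
  ⟨1, 2, 8, 16, 16, 8, 1⟩, ⟨1, 2, 8, 16, 16, 8, 2⟩, ⟨1, 2, 8, 16, 16, 8, 3⟩, ⟨2, 0, 0, 4, -4, 2, 0⟩,
  ⟨2, 0, 0, 4, -4, 2, 1⟩, ⟨2, 0, 0, 4, -4, 2, 2⟩, ⟨2, 0, 2, 2, 0, 1, -2⟩, ⟨2, 0, 2, 2, 0, 1, -1⟩,
  ⟨2, 0, 2, 2, 0, 1, 0⟩, ⟨2, 0, 2, 2, 0, 1, 1⟩, ⟨2, 0, 2, 2, 0, 1, 2⟩, ⟨2, 0, 2, 10, -8, 5, -2⟩,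
  ⟨2, 0, 2, 10, -8, 5, -1⟩, ⟨2, 0, 2, 10, -8, 5, 0⟩, ⟨2, 0, 2, 10, -8, 5, 1⟩, ⟨2, 0, 2, 10, -8, 5, 2⟩,
  ⟨2, 0, 4, 8, 0, 4, -2⟩, ⟨2, 0, 4, 8, 0, 4, -1⟩, ⟨2, 0, 4, 8, 0, 4, 0⟩, ⟨2, 0, 4, 8, 0, 4, 1⟩,
  ⟨2, 0, 4, 8, 0, 4, 2⟩, ⟨2, 0, 6, 10, 8, 5, -2⟩, ⟨2, 0, 6, 10, 8, 5, -1⟩, ⟨2, 0, 6, 10, 8, 5, 0⟩,
  ⟨2, 0, 6, 10, 8, 5, 1⟩, ⟨2, 0, 6, 10, 8, 5, 2⟩, ⟨2, 1, -6, 10, 8, 5, -2⟩, ⟨2, 1, -6, 10, 8, 5, -1⟩,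
  ⟨2, 1, -6, 10, 8, 5, 0⟩, ⟨2, 1, -6, 10, 8, 5, 1⟩, ⟨2, 1, -6, 10, 8, 5, 2⟩, ⟨2, 1, -4, 8, 0, 4, -2⟩,
  ⟨2, 1, -4, 8, 0, 4, -1⟩, ⟨2, 1, -4, 8, 0, 4, 0⟩, ⟨2, 1, -4, 8, 0, 4, 1⟩, ⟨2, 1, -4, 8, 0, 4, 2⟩,
  ⟨2, 1, -2, 2, 0, 1, -2⟩, ⟨2, 1, -2, 2, 0, 1, -1⟩, ⟨2, 1, -2, 2, 0, 1, 0⟩, ⟨2, 1, -2, 2, 0, 1, 1⟩,
  ⟨2, 1, -2, 2, 0, 1, 2⟩, ⟨2, 1, -2, 10, -8, 5, -2⟩, ⟨2, 1, -2, 10, -8, 5, -1⟩, ⟨2, 1, -2, 10, -8, 5, 0⟩,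
  ⟨2, 1, -2, 10, -8, 5, 1⟩, ⟨2, 1, -2, 10, -8, 5, 2⟩, ⟨2, 1, 0, 4, -4, 2, -2⟩, ⟨2, 1, 0, 4, -4, 2, -1⟩,
  ⟨2, 1, 0, 4, -4, 2, 0⟩, ⟨2, 1, 0, 4, -4, 2, 1⟩, ⟨2, 1, 0, 4, -4, 2, 2⟩, ⟨2, 1, 2, 2, 0, 1, -2⟩,
  ⟨2, 1, 2, 2, 0, 1, -1⟩, ⟨2, 1, 2, 2, 0, 1, 0⟩, ⟨2, 1, 2, 2, 0, 1, 1⟩, ⟨2, 1, 2, 2, 0, 1, 2⟩,
  ⟨2, 1, 2, 10, -8, 5, -2⟩, ⟨2, 1, 2, 10, -8, 5, -1⟩, ⟨2, 1, 2, 10, -8, 5, 0⟩, ⟨2, 1, 2, 10, -8, 5, 1⟩,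
  ⟨2, 1, 2, 10, -8, 5, 2⟩, ⟨2, 1, 4, 8, 0, 4, -2⟩, ⟨2, 1, 4, 8, 0, 4, -1⟩, ⟨2, 1, 4, 8, 0, 4, 0⟩,
  ⟨2, 1, 4, 8, 0, 4, 1⟩, ⟨2, 1, 4, 8, 0, 4, 2⟩, ⟨2, 1, 6, 10, 8, 5, -2⟩, ⟨2, 1, 6, 10, 8, 5, -1⟩,
  ⟨2, 1, 6, 10, 8, 5, 0⟩, ⟨2, 1, 6, 10, 8, 5, 1⟩, ⟨2, 1, 6, 10, 8, 5, 2⟩, ⟨4, 0, 0, 2, -1, 0, 0⟩,
  ⟨4, 0, 0, 2, -1, 0, 1⟩, ⟨4, 0, 0, 2, 0, -1, 0⟩, ⟨4, 0, 0, 2, 0, -1, 1⟩, ⟨4, 0, 0, 4, 0, -2, 0⟩,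
  ⟨4, 0, 0, 4, 0, -2, 1⟩, ⟨4, 0, 1, 1, 0, 0, -1⟩, ⟨4, 0, 1, 1, 0, 0, 0⟩, ⟨4, 0, 1, 1, 0, 0, 1⟩,
  ⟨4, 0, 1, 3, -2, 1, -1⟩, ⟨4, 0, 1, 3, -2, 1, 0⟩, ⟨4, 0, 1, 3, -2, 1, 1⟩, ⟨4, 0, 1, 3, 0, -1, -1⟩,
  ⟨4, 0, 1, 3, 0, -1, 0⟩, ⟨4, 0, 1, 3, 0, -1, 1⟩, ⟨4, 0, 1, 5, -2, 0, -1⟩, ⟨4, 0, 1, 5, -2, 0, 0⟩,
  ⟨4, 0, 1, 5, -2, 0, 1⟩, ⟨4, 0, 1, 5, 0, -2, -1⟩, ⟨4, 0, 1, 5, 0, -2, 0⟩, ⟨4, 0, 1, 5, 0, -2, 1⟩,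
  ⟨4, 0, 2, 2, 1, 0, -1⟩, ⟨4, 0, 2, 2, 1, 0, 0⟩, ⟨4, 0, 2, 2, 1, 0, 1⟩, ⟨4, 0, 2, 4, 0, 0, -1⟩,
  ⟨4, 0, 2, 4, 0, 0, 0⟩, ⟨4, 0, 2, 4, 0, 0, 1⟩, ⟨4, 0, 3, 3, 2, 1, -1⟩, ⟨4, 0, 3, 3, 2, 1, 0⟩,
  ⟨4, 0, 3, 3, 2, 1, 1⟩, ⟨4, 0, 3, 5, 0, 2, -1⟩, ⟨4, 0, 3, 5, 0, 2, 0⟩, ⟨4, 0, 3, 5, 0, 2, 1⟩,
  ⟨4, 0, 3, 5, 2, 0, -1⟩, ⟨4, 0, 3, 5, 2, 0, 0⟩, ⟨4, 0, 3, 5, 2, 0, 1⟩, ⟨4, 1, -3, 3, 2, 1, -1⟩,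
  ⟨4, 1, -3, 3, 2, 1, 0⟩, ⟨4, 1, -3, 3, 2, 1, 1⟩, ⟨4, 1, -3, 5, 0, 2, -1⟩, ⟨4, 1, -3, 5, 0, 2, 0⟩,
  ⟨4, 1, -3, 5, 0, 2, 1⟩, ⟨4, 1, -3, 5, 2, 0, -1⟩, ⟨4, 1, -3, 5, 2, 0, 0⟩, ⟨4, 1, -3, 5, 2, 0, 1⟩,
  ⟨4, 1, -2, 2, 1, 0, -1⟩, ⟨4, 1, -2, 2, 1, 0, 0⟩, ⟨4, 1, -2, 2, 1, 0, 1⟩, ⟨4, 1, -2, 4, 0, 0, -1⟩,
  ⟨4, 1, -2, 4, 0, 0, 0⟩, ⟨4, 1, -2, 4, 0, 0, 1⟩, ⟨4, 1, -1, 1, 0, 0, -1⟩, ⟨4, 1, -1, 1, 0, 0, 0⟩,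
  ⟨4, 1, -1, 1, 0, 0, 1⟩, ⟨4, 1, -1, 3, -2, 1, -1⟩, ⟨4, 1, -1, 3, -2, 1, 0⟩, ⟨4, 1, -1, 3, -2, 1, 1⟩,
  ⟨4, 1, -1, 3, 0, -1, -1⟩, ⟨4, 1, -1, 3, 0, -1, 0⟩, ⟨4, 1, -1, 3, 0, -1, 1⟩, ⟨4, 1, -1, 5, -2, 0, -1⟩,
  ⟨4, 1, -1, 5, -2, 0, 0⟩, ⟨4, 1, -1, 5, -2, 0, 1⟩, ⟨4, 1, -1, 5, 0, -2, -1⟩, ⟨4, 1, -1, 5, 0, -2, 0⟩,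
  ⟨4, 1, -1, 5, 0, -2, 1⟩, ⟨4, 1, 0, 2, -1, 0, -1⟩, ⟨4, 1, 0, 2, -1, 0, 0⟩, ⟨4, 1, 0, 2, -1, 0, 1⟩,
  ⟨4, 1, 0, 2, 0, -1, -1⟩, ⟨4, 1, 0, 2, 0, -1, 0⟩, ⟨4, 1, 0, 2, 0, -1, 1⟩, ⟨4, 1, 0, 4, 0, -2, -1⟩,
  ⟨4, 1, 0, 4, 0, -2, 0⟩, ⟨4, 1, 0, 4, 0, -2, 1⟩, ⟨4, 1, 1, 1, 0, 0, -1⟩, ⟨4, 1, 1, 1, 0, 0, 0⟩,
  ⟨4, 1, 1, 1, 0, 0, 1⟩, ⟨4, 1, 1, 3, -2, 1, -1⟩, ⟨4, 1, 1, 3, -2, 1, 0⟩, ⟨4, 1, 1, 3, -2, 1, 1⟩,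
  ⟨4, 1, 1, 3, 0, -1, -1⟩, ⟨4, 1, 1, 3, 0, -1, 0⟩, ⟨4, 1, 1, 3, 0, -1, 1⟩, ⟨4, 1, 1, 5, -2, 0, -1⟩,
  ⟨4, 1, 1, 5, -2, 0, 0⟩, ⟨4, 1, 1, 5, -2, 0, 1⟩, ⟨4, 1, 1, 5, 0, -2, -1⟩, ⟨4, 1, 1, 5, 0, -2, 0⟩,
  ⟨4, 1, 1, 5, 0, -2, 1⟩, ⟨4, 1, 2, 2, 1, 0, -1⟩, ⟨4, 1, 2, 2, 1, 0, 0⟩, ⟨4, 1, 2, 2, 1, 0, 1⟩,
  ⟨4, 1, 2, 4, 0, 0, -1⟩, ⟨4, 1, 2, 4, 0, 0, 0⟩, ⟨4, 1, 2, 4, 0, 0, 1⟩, ⟨4, 1, 3, 3, 2, 1, -1⟩,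
  ⟨4, 1, 3, 3, 2, 1, 0⟩, ⟨4, 1, 3, 3, 2, 1, 1⟩, ⟨4, 1, 3, 5, 0, 2, -1⟩, ⟨4, 1, 3, 5, 0, 2, 0⟩,
  ⟨4, 1, 3, 5, 0, 2, 1⟩, ⟨4, 1, 3, 5, 2, 0, -1⟩, ⟨4, 1, 3, 5, 2, 0, 0⟩, ⟨4, 1, 3, 5, 2, 0, 1⟩]

/-- the certificate -/
def tree : Tree :=
  (.P ⟨2, 1, 1, 1, 1, 2, 2, 2, 1, 0, 0, 0, 0, 0⟩
  (.P ⟨5, 1, 3, -5, 5, 5, 1, 2, 0, 0, 0, 0, 0, 0⟩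
  (.P ⟨1, 0, 2, 2, 2, 1, 3, 2, 0, 0, 0, 0, 0, 0⟩
  (.P ⟨1, -2, 1, 2, 2, -2, 2, 1, 0, 0, 0, 0, 0, 0⟩
  (.P ⟨0, 0, 1, 1, -1, 0, 0, 0, 0, 0, 0, 0, 0, 0⟩
  (.P ⟨5, 2, 1, 1, 1, 5, 2, 2, 3, -1, 0, 0, 0, 0⟩
  (.P ⟨2, -5, 9, 17, 17, -4, 14, 6, 7, -1, -1, 0, 0, 0⟩
  (.P ⟨18, 6, 2, 2, 2, 17, 5, 6, 8, -1, 0, 0, 0, 0⟩
  (.P ⟨24, -26, 8, 14, 14, -11, 6, 1, 0, 0, 0, 0, 0, 0⟩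
  (.P ⟨0, 2, 1, 2, 2, 4, 6, 8, 0, 0, 0, 0, 0, 0⟩
  (.P ⟨4, 3, 0, 0, 0, 2, -1, 0, 0, 0, 0, 0, 0, 0⟩
  (.P ⟨8, 1, 0, 0, 0, 4, 0, 0, 0, 0, 0, 0, 0, 0⟩
  (.P ⟨12, -8, 3, 3, 3, -11, 6, 5, 0, -1, 0, 0, 0, 0⟩
  (.P ⟨220, 322, 155, 310, 310, 438, 375, 227, 45, -262, 0, 0, 0, 0⟩
  (.P ⟨2, -1, 0, 0, 0, -1, 0, 0, 0, 0, 0, 0, 0, 0⟩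
  (.P ⟨8, -8, 3, 0, 6, 3, -1, 0, 0, -1, 0, 0, 0, 0⟩
  (.P ⟨0, 0, 1, 0, -2, 0, 0, 0, 0, 0, 0, 0, 0, 0⟩
  (.P ⟨12, 19, 6, 11, 11, 26, 18, 15, 26, -13, 0, 0, 0, 0⟩
  (.T 15
  (.P ⟨0, 2, 1, -2, 2, 0, 0, 0, 0, 0, 0, 0, 0, 0⟩
  (.S 0
  (.T 5
  (.P ⟨1, 3, 1, 3, 2, -3, 3, 2, 0, 0, 0, 0, 0, 0⟩
  (.P ⟨0, 1, 0, -1, 0, -1, 0, 1, 0, 0, 0, 0, 0, 0⟩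
  (.P ⟨1, 2, 1, 1, 2, -2, 2, 1, 0, 0, 0, 0, 0, 0⟩
  (.P ⟨0, 2, 0, 0, 0, -1, 1, 2, 0, 0, 0, 0, 0, 0⟩
  (.T 4
  (.P ⟨1, 1, 0, 0, 0, 1, 0, 0, 0, 0, 0, 0, 0, 0⟩
  (.T 4
  (.S 1
  (.P ⟨2, 2, 2, 1, -2, -2, 1, 0, 0, 0, 0, 0, 0, 0⟩
  (.S 2
  (.L ⟨58, 58, 58, 30, -58, 58, 27, 0, 0, 20, 0, 1, 0, 0⟩)
  (.S 1
  (.S 2
  (.L ⟨8, 8, 8, 4, -8, 8, 5, 2, 8, -4, 0, 0, 0, 0⟩)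
  (.S 3
  (.L ⟨196, 195, 196, 97, -195, 195, 115, 36, 195, -97, 0, -1, 0, 0⟩)
  (.L ⟨12, 11, 12, 6, -11, 11, 7, 2, 11, -6, 0, 0, 0, 0⟩)))
  (.L ⟨39, 38, 39, 19, -38, 38, 23, 7, 38, -19, 0, 0, 0, 0⟩))))
  (.L ⟨438, 438, 438, 219, -438, 438, 258, 79, 438, -219, 0, 0, 0, 0⟩))
  (.S 1
  (.P ⟨1, 1, 0, 1, 1, -1, 1, 1, 0, 0, 0, 0, 0, 0⟩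
  (.S 0
  (.L ⟨61, 58, 7, 56, 56, 59, 59, 56, -26, 26, 0, 1, 0, 0⟩)
  (.S 0
  (.L ⟨8, 8, 2, 8, 8, 8, 7, 6, -8, -8, 0, 0, 0, 0⟩)
  (.S 2
  (.S 0
  (.L ⟨12, 11, 3, 11, 11, 12, 10, 8, -11, -11, 0, 0, 0, 0⟩)
  (.S 1
  (.L ⟨293, 292, 62, 265, 265, 292, 292, 231, 292, -292, 0, -1, 0, 0⟩)
  (.L ⟨130, 130, 14, 116, 116, 130, 130, 117, 130, -65, 0, 0, 0, 0⟩)))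
  (.L ⟨18, 17, 2, 15, 15, 17, 17, 16, 17, -17, -9, 0, 0, 0⟩)))))
  (.L ⟨86, 86, 5, 85, 85, 86, 86, 82, 86, -22, 0, 0, 0, 0⟩))))
  (.L ⟨0, 1, 0, 0, 0, -1, 0, 0, 0, 0, 0, 0, 0, 0⟩))))))
  (.P ⟨1, 1, 0, 0, 0, 1, 0, 0, 0, 0, 0, 0, 0, 0⟩
  (.S 0
  (.T 5
  (.T 6
  (.P ⟨1, 1, 0, 0, 0, -1, 0, 0, 0, 0, 0, 0, 0, 0⟩
  (.S 0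
  (.S 1
  (.L ⟨58, 58, 0, 0, 0, -58, 0, 0, 0, 0, 0, 1, 0, 0⟩)
  (.S 1
  (.L ⟨58, 58, 0, 0, 0, -58, 0, 0, 0, 0, 0, 1, 0, 0⟩)
  (.S 1
  (.L ⟨58, 58, 0, 0, 0, -58, 0, 0, 0, 0, 0, 1, 0, 0⟩)
  (.S 1
  (.L ⟨58, 58, 0, 0, 0, -58, 0, 0, 0, 0, 0, 1, 0, 0⟩)
  (.S 1
  (.L ⟨58, 58, 0, 0, 0, -58, 0, 0, 0, 0, 0, 1, 0, 0⟩)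
  (.T 9
  (.P ⟨5, 5, 5, 3, -4, -5, 5, 4, 0, 0, 0, 0, 0, 0⟩
  (.P ⟨2, 2, -1, 2, -2, -2, -2, 2, 0, -1, 0, 0, 0, 0⟩
  (.P ⟨3, 3, 3, 3, -2, -3, 3, 2, 0, 0, 0, 0, 0, 0⟩
  (.S 0
  (.L ⟨11, 11, 8, 2, -11, -11, 3, 2, 11, -6, 0, 0, 0, 0⟩)
  (.T 3
  (.T 1
  (.S 0
  (.L ⟨2, 2, 2, 2, 2, -2, -2, 0, 0, -2, 0, 0, 0, 0⟩)
  (.S 0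
  (.T 0
  (.T 0
  (.S 3
  (.P ⟨1, 1, 1, 1, 1, -1, -1, 1, 0, 0, 0, 0, 0, 0⟩
  (.L ⟨58, 58, 58, 58, 58, -58, -58, 58, 0, -58, 0, 0, 1, 0⟩))
  (.P ⟨1, 1, 1, 1, 1, -1, -1, 1, 0, 0, 0, 0, 0, 0⟩
  (.L ⟨58, 58, 58, 58, 58, 58, -58, 58, 58, 0, -58, 0, -1, 0⟩)))
  (.L ⟨1, 1, 1, 1, 1, -1, -1, -1, 0, 0, 0, 0, 0, 0⟩))
  (.L ⟨2, 2, 2, 2, 2, -2, -2, -2, 2, -1, 0, 0, 0, 0⟩))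
  (.L ⟨17, 17, 17, 17, 17, -17, -17, 0, 0, -17, 0, 0, 0, 0⟩)))
  (.L ⟨1, 1, 1, -1, 0, -1, 1, 1, 0, -1, 0, 0, 0, 0⟩))
  (.L ⟨2, 2, -2, 1, -2, -2, 0, 2, 2, -1, 0, 0, 0, 0⟩))))))
  (.T 8
  (.T 5
  (.P ⟨3, 3, 3, -3, -3, -3, -1, 3, 0, 0, 0, 0, 0, 0⟩
  (.T 1
  (.S 0
  (.L ⟨2, 2, 2, 2, 2, -2, -2, 0, 0, -2, 0, 0, 0, 0⟩)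
  (.P ⟨1, 1, 1, 1, 1, -1, -1, 0, 0, 0, 0, 0, 0, 0⟩
  (.S 0
  (.L ⟨3, 2, 3, 2, 2, -2, -2, 1, 2, 2, -2, 0, 0, 0⟩)
  (.S 0
  (.L ⟨3, 3, 3, 3, 3, -3, -3, 1, 3, 3, -3, 0, 0, 0⟩)
  (.S 0
  (.L ⟨11, 11, 11, 11, 11, -11, -11, 0, 0, 0, -11, 0, 0, 0⟩)
  (.S 1
  (.S 3
  (.S 0
  (.L ⟨292, 292, 292, 292, 292, -292, -292, 0, 0, 292, 0, -3, 0, 0⟩)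
  (.L ⟨11, 11, 11, 11, 11, -11, -11, 0, 0, -11, 0, 0, 0, 0⟩))
  (.L ⟨26, 26, 26, 26, 26, -26, -26, 0, 0, -26, 0, 0, 0, 0⟩))
  (.L ⟨64, 58, 64, 58, 58, -54, -54, 14, 58, 0, 0, 0, -1, 0⟩)))))))
  (.L ⟨1, 1, 1, -1, -1, -1, 1, 0, 0, 0, 0, 0, 0, 0⟩)))
  (.T 6
  (.P ⟨5, 5, 5, 3, -4, -5, 5, 4, 0, 0, 0, 0, 0, 0⟩
  (.S 0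
  (.L ⟨4, 3, 4, 3, -1, -3, 2, 0, 0, -3, 0, 0, 0, 0⟩)
  (.S 0
  (.L ⟨5, 5, 5, 5, 5, -5, 4, 0, 0, 1, -5, 0, 0, 0⟩)
  (.S 0
  (.S 2
  (.L ⟨86, 86, 86, 86, -1, -86, 57, 0, 0, 86, 0, -1, 0, 0⟩)
  (.L ⟨4988, 4988, 4988, 4988, -2088, -4988, 2956, 0, 0, -4988, 0, 0, 0, 0⟩))
  (.L ⟨17, 17, 17, 17, -7, -17, 10, 0, 0, -17, 0, 0, 0, 0⟩)))))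
  (.P ⟨2, 2, 2, 2, -2, -1, 1, 0, 0, 0, 0, 0, 0, 0⟩
  (.T 4
  (.T 1
  (.P ⟨4, 3, 4, -3, -3, -3, 1, 3, 0, 0, 0, 0, 0, 0⟩
  (.S 0
  (.L ⟨11, 11, 11, -11, -11, -11, -2, 2, 11, -6, 0, 0, 0, 0⟩)
  (.T 1
  (.S 0
  (.L ⟨2, 2, 2, 2, -2, -2, -2, 0, 0, -2, 0, 0, 0, 0⟩)
  (.S 0
  (.T 0
  (.T 0
  (.S 4
  (.P ⟨1, 1, 1, 1, 1, -1, -1, 1, 0, 0, 0, 0, 0, 0⟩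
  (.L ⟨58, 58, 58, 58, -58, -58, -58, 58, 0, -58, 0, 0, 1, 0⟩))
  (.P ⟨1, 1, 1, 1, 1, -1, -1, 1, 0, 0, 0, 0, 0, 0⟩
  (.L ⟨58, 58, 58, 58, -58, 58, -58, 58, 0, 0, -58, 0, -1, 0⟩)))
  (.L ⟨1, 1, 1, 1, -1, -1, -1, -1, 0, 0, 0, 0, 0, 0⟩))
  (.L ⟨1, 1, 1, 1, -1, -1, -1, -1, 0, 0, 0, 0, 0, 0⟩))
  (.L ⟨17, 17, 17, 17, -17, -17, -17, 0, 0, -17, 0, 0, 0, 0⟩)))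
  (.L ⟨1, 1, -1, -1, -1, -1, 1, 0, 0, -1, 0, 0, 0, 0⟩))))
  (.T 2
  (.S 0
  (.L ⟨2, 2, 2, 2, 2, -2, -2, 0, 0, -2, 0, 0, 0, 0⟩)
  (.S 0
  (.T 0
  (.T 0
  (.T 0
  (.T 0
  (.T 0
  (.T 0
  (.S 7
  (.P ⟨1, 1, 1, 1, 1, -1, -1, 1, 0, 0, 0, 0, 0, 0⟩
  (.L ⟨58, 58, 58, 58, 58, -58, -58, 58, 0, -58, 0, 0, 1, 0⟩))
  (.P ⟨1, 1, 1, 1, 1, -1, -1, 1, 0, 0, 0, 0, 0, 0⟩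
  (.L ⟨58, 58, 58, 58, 58, 58, -58, 58, 58, 0, -58, 0, -1, 0⟩)))
  (.L ⟨1, 1, 1, 1, 1, -1, -1, -1, 0, 0, 0, 0, 0, 0⟩))
  (.L ⟨2, 2, 2, 2, 2, -2, -2, -2, 2, -1, 0, 0, 0, 0⟩))
  (.L ⟨2, 2, 2, 2, 2, -2, -2, -2, 2, -1, 0, 0, 0, 0⟩))
  (.L ⟨1, 1, 1, 1, 1, -1, -1, -1, 1, -1, 0, 0, 0, 0⟩))
  (.L ⟨1, 1, 1, 1, 1, -1, -1, -1, 1, -1, 0, 0, 0, 0⟩))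
  (.L ⟨1, 1, 1, 1, 1, -1, -1, -1, 1, -1, 0, 0, 0, 0⟩))
  (.L ⟨17, 17, 17, 17, 17, -17, -17, 0, 0, -17, 0, 0, 0, 0⟩)))
  (.L ⟨2, 2, 1, -2, -2, -2, -1, 0, 0, -2, 0, 0, 0, 0⟩)))
  (.L ⟨2, 2, 0, 1, -2, -2, 0, 0, 0, 0, 0, 0, 0, 0⟩)))))
  (.T 10
  (.S 0
  (.L ⟨17, 17, 4, 17, 17, -17, 3, 0, 0, -17, 0, 0, 0, 0⟩)
  (.S 0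
  (.T 8
  (.T 9
  (.S 0
  (.L ⟨8, 8, 8, 8, -4, -8, -8, 0, 0, -8, 0, 0, 0, 0⟩)
  (.P ⟨2, 1, 2, 1, -1, -1, -1, 1, 1, -1, 0, 0, 0, 0⟩
  (.P ⟨1, 1, 1, 1, 1, -1, -1, 0, 0, 0, 0, 0, 0, 0⟩
  (.S 0
  (.S 1
  (.S 3
  (.L ⟨26, 26, 26, 26, -26, -26, -26, 0, 0, 26, 0, 0, 0, 0⟩)
  (.S 3
  (.L ⟨16834, 16834, 16834, 16834, -16834, -16834, -16834, 0, 0, -16834, 0, -1, 1, 0⟩)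
  (.L ⟨38, 38, 38, 38, -38, -38, -38, 0, 0, -38, 0, 0, 0, 0⟩)))
  (.L ⟨58, 58, 58, 58, -58, 58, -58, 0, 0, 0, 0, 0, -1, 0⟩))
  (.L ⟨38, 38, 38, 38, -38, -38, -38, 0, 0, -38, 0, 0, 0, 0⟩)))))
  (.L ⟨2, 2, -1, 2, 2, -2, -2, 0, 0, 0, 0, 0, 0, 0⟩))
  (.L ⟨5, 5, 0, 5, 5, -5, 1, 0, 0, 0, 0, 0, 0, 0⟩))
  (.L ⟨38, 38, 8, 38, 38, -38, 7, 0, 0, -37, 0, 0, 0, 0⟩)))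
  (.L ⟨2, 2, 0, -1, 2, -2, 0, 0, 0, 0, 0, 0, 0, 0⟩)))))))))
  (.L ⟨11, 11, 0, 0, 0, -11, 0, 0, 0, -11, -11, 0, 0, 0⟩)))
  (.L ⟨-7, 8, 0, 0, 0, -8, 0, 0, 0, -8, -8, 0, 0, 0⟩))
  (.L ⟨0, 1, 0, 0, 0, 1, 0, 0, 0, 0, 0, 0, 0, 0⟩))
  (.L ⟨7, 11, 0, 0, 0, 6, 0, 0, 0, -11, -11, 0, 0, 0⟩))))
  (.L ⟨58, 58, 7, 14, 13, 29, 19, 14, 58, -47, -29, 0, 0, 0⟩)))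
  (.P ⟨16, 58, 4, 7, 7, 14, 12, 14, 58, -28, -18, 0, 0, 0⟩
  (.P ⟨15, -7, 29, 58, 58, 15, 42, 14, 58, -26, -11, 0, 0, 0⟩
  (.P ⟨8, 38, 0, 0, 0, 7, 2, 7, 27, -13, -13, 0, 0, 0⟩
  (.P ⟨10, 17, 4, 8, 8, 17, 11, 8, 17, 0, 0, 0, 0, 0⟩
  (.P ⟨2, -3, 0, 0, 0, 3, -3, 2, 3, -3, -3, 0, 0, 0⟩
  (.T 3
  (.P ⟨0, -1, 1, 2, 2, -2, 3, 2, 0, 0, 0, 0, 0, 0⟩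
  (.P ⟨0, -3, 0, -3, 0, -3, -1, 3, 0, 0, 0, 0, 0, 0⟩
  (.S 0
  (.P ⟨8, -6, 0, 0, 0, -8, 0, 0, 0, 0, 0, 0, 0, 0⟩
  (.T 4
  (.S 0
  (.T 3
  (.S 0
  (.P ⟨1, 1, 0, 0, 0, 1, 0, 0, 0, 0, 0, 0, 0, 0⟩
  (.T 2
  (.P ⟨1, 1, 0, 0, 0, 1, 0, 0, 0, 0, 0, 0, 0, 0⟩
  (.S 0
  (.L ⟨58, 58, 0, 0, 0, 58, 0, 0, 0, 0, 0, 1, 0, 0⟩)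
  (.S 1
  (.S 0
  (.L ⟨60, 58, 9, 12, 12, 59, 20, 14, 58, -29, 0, 1, 0, 0⟩)
  (.S 2
  (.S 0
  (.L ⟨60, 58, 8, 12, 12, 59, 19, 14, 58, -29, 0, 1, 0, 0⟩)
  (.S 0
  (.L ⟨58, 58, 0, 0, 0, 58, 0, 0, 0, 0, 0, 1, 0, 0⟩)
  (.S 0
  (.L ⟨58, 58, 0, 0, 0, 58, 0, 0, 0, 0, 0, 1, 0, 0⟩)
  (.S 0
  (.L ⟨58, 58, 0, 0, 0, 58, 0, 0, 0, 0, 0, 1, 0, 0⟩)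
  (.S 0
  (.L ⟨58, 58, 0, 0, 0, 58, 0, 0, 0, 0, 0, 1, 0, 0⟩)
  (.T 8
  (.P ⟨1, 1, 1, 1, 1, 1, -1, 1, 1, 0, 0, 0, 0, 0⟩
  (.P ⟨1, 1, 1, 1, 1, 1, -1, 0, 0, 0, 0, 0, 0, 0⟩
  (.S 0
  (.L ⟨8, 8, 8, 8, 8, 8, -8, 0, 0, -8, 0, 0, 0, 0⟩)
  (.L ⟨58, 58, 58, 58, 58, 58, -58, 11, 58, 29, 0, 0, -1, 0⟩))))
  (.T 3
  (.P ⟨2, 2, 1, -2, 2, 2, 1, 2, 2, -1, 0, 0, 0, 0⟩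
  (.P ⟨4, 3, 4, -3, 3, 3, 1, 0, 0, 0, 0, 0, 0, 0⟩
  (.S 4
  (.S 1
  (.T 2
  (.S 0
  (.L ⟨8, 8, 8, 8, 8, 8, -8, 0, 0, -8, 0, 0, 0, 0⟩)
  (.P ⟨1, 1, 1, 1, 1, 1, -1, 1, 1, 0, 0, 0, 0, 0⟩
  (.L ⟨58, 58, 58, 58, 58, 58, -57, 11, 58, 58, 0, -1, -1, 0⟩)))
  (.L ⟨1, 1, -1, -1, 1, 1, -1, 0, 0, 0, 0, 0, 0, 0⟩))
  (.L ⟨58, 58, 29, -58, 58, 58, 0, 0, 0, 0, 0, -1, 0, 0⟩))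
  (.L ⟨292, 292, 146, -292, 292, 292, 26, 53, 292, -146, 0, 0, 0, 0⟩))))
  (.T 3
  (.P ⟨2, 2, 2, 2, -2, 2, 2, 2, 2, -1, 0, 0, 0, 0⟩
  (.S 4
  (.S 1
  (.T 2
  (.T 2
  (.T 0
  (.S 0
  (.L ⟨38, 38, 38, 38, -38, 38, -38, 7, 38, -19, 0, 0, 0, 0⟩)
  (.T 0
  (.P ⟨1, 1, 1, 1, -1, 1, -1, 1, 0, 0, 0, 0, 0, 0⟩
  (.S 0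
  (.L ⟨38, 38, 38, 38, -38, 38, -38, 38, 38, -19, 0, 0, 0, 0⟩)
  (.L ⟨130, 130, 130, 130, -130, 130, -130, 130, -130, 65, 0, -1, -1, -2⟩)))
  (.L ⟨5, 5, 5, 5, -5, 5, -5, -5, 5, -3, 0, 0, 0, 0⟩)))
  (.L ⟨2, 2, 2, 2, -2, 2, -2, -2, 2, -1, 0, 0, 0, 0⟩))
  (.L ⟨2, 2, -1, 2, -2, 2, 0, 0, 0, 0, 0, 0, 0, 0⟩))
  (.L ⟨2, 2, -1, 2, -2, 2, 0, 0, 0, 0, 0, 0, 0, 0⟩))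
  (.L ⟨58, 58, 58, 58, -58, 58, 29, 0, 0, 0, 0, -1, 0, 0⟩))
  (.L ⟨292, 292, 292, 292, -292, 292, 172, 53, 292, -146, 0, 0, 0, 0⟩)))
  (.L ⟨1, 1, 0, 1, 1, 1, 1, 1, 0, 0, 0, 0, 0, 0⟩)))))))))
  (.L ⟨86, 86, 8, 16, 16, 86, 23, 16, 86, -38, 0, 0, 0, 0⟩)))
  (.L ⟨130, 130, 14, 27, 27, 130, 41, 28, 130, -65, 0, 0, 0, 0⟩))))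
  (.L ⟨-1, 1, 0, 0, 0, 1, 0, 0, 0, 0, 0, 0, 0, 0⟩)))
  (.L ⟨17, 38, 7, 13, 13, 39, 15, 9, 38, -30, 0, 0, 0, 0⟩))
  (.L ⟨7, 11, 3, 5, 5, -11, 3, 1, 0, -11, 0, 0, 0, 0⟩))
  (.L ⟨7, 26, 3, 5, 5, 4, 7, 5, 26, -11, 0, 0, 0, 0⟩))
  (.L ⟨4, -8, 2, 2, 2, 8, 3, 2, 8, -6, -2, 0, 0, 0⟩)))
  (.L ⟨21, 29, 8, 16, 16, 14, 23, 16, 86, -38, 0, 0, 0, 0⟩))))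
  (.P ⟨99, 137, 147, -292, 292, 159, 28, 69, 292, -178, 0, 0, 0, 0⟩
  (.P ⟨96, 98, 195, 140, -138, 195, 169, 107, 178, -173, 0, 0, 0, 0⟩
  (.T 6
  (.S 0
  (.T 5
  (.S 0
  (.S 1
  (.T 3
  (.T 3
  (.P ⟨1, 1, 0, 0, 0, -1, 0, 0, 0, 0, 0, 0, 0, 0⟩
  (.T 12
  (.S 0
  (.L ⟨8, 8, 8, 8, -8, 8, -8, 0, 0, -5, 0, 0, 0, 0⟩)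
  (.P ⟨1, 1, 1, 1, 1, -1, -1, 0, 0, 0, 0, 0, 0, 0⟩
  (.P ⟨3, 3, 3, 3, -3, 3, -3, 1, 3, -1, 0, 0, 0, 0⟩
  (.S 3
  (.L ⟨657, 657, 657, 657, -657, -657, -657, 154, 657, 164, 0, 0, -7, 0⟩)
  (.L ⟨3, 3, 3, 3, -3, -3, -3, 0, 0, -3, 0, 0, 0, 0⟩)))))
  (.T 7
  (.P ⟨2, 2, 2, -2, -2, -2, -1, 0, 0, 0, 0, 0, 0, 0⟩
  (.P ⟨1, 1, 1, -1, 1, -1, 0, 0, 0, 0, 0, 0, 0, 0⟩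
  (.P ⟨4, 3, 4, -3, 3, -3, 1, 0, 0, 0, 0, 0, 0, 0⟩
  (.S 3
  (.T 5
  (.P ⟨1, 1, 1, 1, -1, 1, -1, 0, 0, 0, 0, 0, 0, 0⟩
  (.S 0
  (.L ⟨5, 5, 5, 5, -5, -5, -5, 0, 0, -5, 0, 0, 0, 0⟩)
  (.L ⟨657, 657, 657, 657, -657, -657, -657, 154, 657, 164, 0, 0, -7, 0⟩)))
  (.L ⟨5, 5, -5, -5, 5, 5, -4, 2, 5, -5, 0, 0, 0, 0⟩))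
  (.L ⟨12, 11, 5, -11, 11, 11, 0, 3, 11, -11, 0, 0, 0, 0⟩)))))
  (.T 7
  (.P ⟨2, 2, 1, 2, -2, 2, 0, 0, 0, 0, 0, 0, 0, 0⟩
  (.T 2
  (.P ⟨2, 1, 2, 1, -1, -1, -1, 1, 1, -1, 0, 0, 0, 0⟩
  (.S 4
  (.L ⟨17, 17, 9, 17, -17, -17, -17, 17, 17, 0, 0, 0, 0, 0⟩)
  (.S 0
  (.S 4
  (.L ⟨58, 58, 29, 58, -58, -58, -58, 58, 58, 0, 0, 0, 0, 0⟩)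
  (.P ⟨1, 1, 1, 1, -1, -1, -1, 1, 0, 0, 0, 0, 0, 0⟩
  (.S 4
  (.P ⟨2, 2, 1, 2, -2, -2, -2, 2, 0, 0, 0, 0, 0, 0⟩
  (.L ⟨58, 58, 29, 58, -58, -58, -58, 58, -58, -14, -14, -1, 0, -1⟩))
  (.L ⟨26, 26, 13, 26, -26, -26, -26, 26, -26, -26, -26, 0, 0, 0⟩))))
  (.L ⟨292, 292, 146, 292, -292, -292, -292, 292, 292, -73, -73, 0, 0, 0⟩))))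
  (.S 3
  (.T 2
  (.P ⟨1, 1, 1, 1, 0, -1, 1, 0, 0, 0, 0, 0, 0, 0⟩
  (.S 0
  (.L ⟨8, 8, 8, 8, -8, -8, 3, 0, 0, -8, 0, 0, 0, 0⟩)
  (.S 0
  (.T 2
  (.S 0
  (.L ⟨8, 8, 8, 8, -8, -8, -8, 0, 0, -8, 0, 0, 0, 0⟩)
  (.P ⟨2, 2, 2, 2, 2, -1, -1, 1, 2, -1, 0, 0, 0, 0⟩
  (.L ⟨657, 657, 657, 657, -657, -657, -657, 154, 657, 164, 0, 0, -7, 0⟩)))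
  (.L ⟨1, 1, -1, 1, -1, -1, 1, 0, 0, -1, 0, 0, 0, 0⟩))
  (.L ⟨58, 58, 58, 58, -58, -58, 22, 0, 0, -58, 0, 0, 0, 0⟩))))
  (.L ⟨1, 1, 1, 1, -1, -1, 1, 0, 0, 0, 0, 0, 0, 0⟩))
  (.L ⟨8, 8, 8, 8, -4, -8, 5, 0, 0, -8, 0, 0, 0, 0⟩))))
  (.L ⟨86, 86, 5, 86, 85, -86, 86, 82, 86, -22, 0, 0, 0, 0⟩)))))
  (.L ⟨0, 1, 0, 0, 0, 1, 0, 0, 0, 0, 0, 0, 0, 0⟩))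
  (.L ⟨0, 1, 0, 0, 0, 1, 0, 0, 0, 0, 0, 0, 0, 0⟩))
  (.L ⟨153, 195, 25, 49, 49, 195, 69, 46, 195, -68, 0, 0, 0, 0⟩))
  (.L ⟨26, 26, 1, 1, 1, 26, 1, 1, 1, -17, -16, 0, 0, 0⟩))
  (.L ⟨10, 17, 0, 0, 0, 9, 0, 0, 0, -17, -17, 0, 0, 0⟩))
  (.L ⟨9, 11, 2, 3, 3, 11, 4, 3, 11, -10, -6, 0, 0, 0⟩))
  (.L ⟨5, -5, 1, 1, 1, 5, 2, 2, 5, -5, -3, 0, 0, 0⟩)))))))))))))))))))))))))))))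

theorem check_tree : check tree [] (types.map fun t => (t, .full)) = true := by decide +kernel

theorem not_real : ¬ Real [] (types.map fun t => (t, .full)) := not_real_of_check _ _ _ check_tree

end CfsgLib.Lyons
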