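import Mathlib
import Cfsg.Agent.Lib.Lyons.Main
import Cfsg.Agent.Lib.Gold.Inputs

/-! Lyons' theorem in the form used in the fusion theorem. -/

set_option autoImplicit false

namespace CfsgLib.Lyons

universe u

theorem lyons : Gold.LyonsStmt.{u} := fun _ _ _ _ _ _ _ hF _ P hS =>
  (tf_of_psu hF P hS.some).iso_psu hF

theorem rk2 : Gold.RK2.{u} := Gold.rk2_of_lyons lyons

end CfsgLib.Lyons
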